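import Groth.Agent.AlgSpWA.FTSub
import Groth.Agent.AlgSpWA.SerreTheta
import Groth.Agent.AlgSpDec.QCohIdeal
import Groth.Agent.AlgSpDec.IdealFactor
import Mathlib.RingTheory.RingHom.FaithfullyFlat

/-!
# Quasi-coherent ideals are unions of quasi-coherent ideals of finite type
-/

set_option autoImplicit false
set_option linter.style.haveILetI false
set_option backward.isDefEq.respectTransparency false
set_option backward.isDefEq.respectTransparency.types false

noncomputable section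

universe u

open CategoryTheory CategoryTheory.Limits AlgebraicGeometry Opposite AlgSp
open Groth.Agent.AlgSpLib Groth.Agent.QCart13 Groth.Agent.AlgSpWA Groth.Agent.AlgSpWA.CohUnion Groth.Agent.AlgSpWA.SerreTheta Groth.Agent.AlgSpWA.SerreSub Groth.Agent.AlgSpWA.SerreGen Groth.Agent.AlgSpWA.FinSys

namespace Groth.Agent.FTIdeal13

variable {S : Scheme.{u}}

section Ideal

variable {X : Sp S}

/-- The values of an ideal family as submodules of the structure module. -/
def asSub (J : IdealEt X) (V : EtOver X) (hV : Aff V) : Submodule (Fn V) (sectModEt (unitModEt X) V) where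
  carrier := {s | ofU V s ∈ J.ideal V hV}
  zero_mem' := by show ofU V 0 ∈ J.ideal V hV; rw [map_zero]; exact Submodule.zero_mem _
  add_mem' {a b} ha hb := by show ofU V (a + b) ∈ J.ideal V hV; rw [map_add]; exact add_mem ha hb
  smul_mem' r a ha := by
    show ofU V (r • a) ∈ J.ideal V hV
    rw [ofU_smul]
    exact Ideal.mul_mem_left _ r ha

theorem compat_asSub {J : IdealEt X} (hJ : J.IsQCoh) : Compat (unitModEt X) (asSub J) := by
  intro V V' hV hV' g
  refine le_antisymm (fun s hs => ?_) (Submodule.span_le.2 ?_)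
  · have h : ofU V' s ∈ (J.ideal V hV).map g.hom.left.left.appTop.hom := hJ g hV hV' hs
    suffices ∀ a ∈ (J.ideal V hV).map g.hom.left.left.appTop.hom,
        toU V' a ∈ spanAt (unitModEt X) (asSub J V hV : Set (sectModEt (unitModEt X) V)) g from toU_ofU V' s ▸ this _ h
    intro a ha
    refine Submodule.span_induction (p := fun a _ => toU V' a ∈ spanAt (unitModEt X) (asSub J V hV : Set (sectModEt (unitModEt X) V)) g)
      ?_ ?_ ?_ ?_ ha
    · rintro _ ⟨b, hb, rfl⟩
      exact Submodule.subset_span ⟨toU V b, hb, rfl⟩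
    · rw [map_zero]; exact zero_mem _
    · intro x y _ _ hx hy; rw [map_add]; exact add_mem hx hy
    · intro r x _ hx
      exact Submodule.smul_mem _ r hx
  · rintro _ ⟨m, hm, rfl⟩
    exact J.map_le g hV hV' (Ideal.mem_map_of_mem _ hm)

/-- The quasi-coherent module of an ideal family. -/
abbrev modJ (J : IdealEt X) : ModEt X := SerreSub.sub (unitModEt X) (asSub J)

/-- Its inclusion in the structure module. -/
abbrev ιJ (J : IdealEt X) : modJ J ⟶ unitModEt X := subι (unitModEt X) (asSub J)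

/-- A section of the module as a function. -/
def toFn (J : IdealEt X) (V : EtOver X) (s : sectModEt (modJ J) V) : Fn V := ofU V (appL (ιJ J) V s)

theorem toFn_smul (J : IdealEt X) (V : EtOver X) (r : Fn V) (s : sectModEt (modJ J) V) :
    toFn J V (r • s) = r * toFn J V s := by
  rw [toFn, map_smul, ofU_smul]
  rfl

theorem toFn_res (J : IdealEt X) {V V' : EtOver X} (g : V' ⟶ V) (s : sectModEt (modJ J) V) :
    toFn J V' (res (modJ J) g s) = g.hom.left.left.appTop.hom (toFn J V s) := by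
  rw [toFn, ← res_appL, ofU_res]
  rfl

/-- The ideal of the sections of a system. -/
def sysIdealAt (J : IdealEt X) (Sg : Sys (modJ J) (𝟙 X)) (V : EtOver X) (hV : Aff V) : Ideal (Fn V) where
  carrier := {a | ∃ s ∈ sysSub (modJ J) Sg V hV, toFn J V s = a}
  zero_mem' := ⟨0, Submodule.zero_mem _, by rw [toFn, map_zero, map_zero]⟩
  add_mem' := by
    rintro _ _ ⟨s, hs, rfl⟩ ⟨t, ht, rfl⟩
    exact ⟨s + t, add_mem hs ht, by rw [toFn, map_add, map_add]; rfl⟩
  smul_mem' := by
    rintro r _ ⟨s, hs, rfl⟩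
    exact ⟨r • s, Submodule.smul_mem _ r hs, toFn_smul J V r s⟩

/-- The ideal family of a system. -/
def sysIdeal {J : IdealEt X} [(modJ J).IsQuasicoherent] (Sg : Sys (modJ J) (𝟙 X)) : IdealEt X where
  ideal := sysIdealAt J Sg
  map_le {V V'} g hV hV' := by
    rw [Ideal.map_le_iff_le_comap]
    rintro _ ⟨s, hs, rfl⟩
    exact ⟨res (modJ J) g s, res_mem (compat_sysSub (modJ J) Sg) hV hV' g hs, toFn_res J g s⟩

variable {J : IdealEt X} [(modJ J).IsQuasicoherent]

theorem isQCoh_sysIdeal (Sg : Sys (modJ J) (𝟙 X)) : (sysIdeal Sg).IsQCoh := by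
  intro V V' g hV hV'
  rintro _ ⟨s, hs, rfl⟩
  rw [compat_sysSub (modJ J) Sg V V' hV hV' g] at hs
  refine Submodule.span_induction
    (p := fun s _ => toFn J V' s ∈ ((sysIdeal Sg).ideal V hV).map g.hom.left.left.appTop.hom) ?_ ?_ ?_ ?_ hs
  · rintro _ ⟨m, hm, rfl⟩
    rw [toFn_res]
    exact Ideal.mem_map_of_mem _ ⟨m, hm, rfl⟩
  · rw [toFn, map_zero, map_zero]; exact Submodule.zero_mem _
  · intro x y _ _ hx hy; rw [toFn, map_add, map_add]; exact add_mem hx hy
  · intro r x _ hx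
    rw [toFn_smul]
    exact Ideal.mul_mem_left _ r hx

theorem fg_sysIdeal (Sg : Sys (modJ J) (𝟙 X)) (V : EtOver X) (hV : Aff V) : ((sysIdeal Sg).ideal V hV).FG := by
  classical
  obtain ⟨Q, hQ⟩ := fg_sysSub (modJ J) Sg V hV
  refine ⟨Q.image (toFn J V), le_antisymm (Ideal.span_le.2 ?_) ?_⟩
  · intro a ha
    obtain ⟨q, hq, rfl⟩ := Finset.mem_image.1 ha
    exact ⟨q, hQ ▸ Submodule.subset_span hq, rfl⟩
  · rintro _ ⟨s, hs, rfl⟩
    rw [← hQ] at hs
    refine Submodule.span_induction (p := fun s _ => toFn J V s ∈ Ideal.span (↑(Q.image (toFn J V)))) ?_ ?_ ?_ ?_ hs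
    · intro q hq
      exact Ideal.subset_span (Finset.mem_coe.2 (Finset.mem_image_of_mem _ hq))
    · rw [toFn, map_zero, map_zero]; exact Submodule.zero_mem _
    · intro x y _ _ hx hy; rw [toFn, map_add, map_add]; exact add_mem hx hy
    · intro r x _ hx
      rw [toFn_smul]
      exact Ideal.mul_mem_left _ r hx

theorem sysIdeal_le (hJ : J.IsQCoh) (Sg : Sys (modJ J) (𝟙 X)) : sysIdeal Sg ≤ J := by
  intro V hV
  rintro _ ⟨s, -, rfl⟩
  haveI : (unitModEt X).IsQuasicoherent := isQuasicoherent_unit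
  exact appL_mem (compat_asSub hJ) V hV s

end Ideal

/-- Finitely many sections of a quasi-coherent ideal lie in a quasi-coherent ideal of finite type below it. -/
theorem exists_fg_le [QuasiSeparatedSpace ↥S] (X : Space S) (hqc : IsQuasiCompactSp X.obj)
    (hqs : IsQuasiSeparatedSp X.obj) {J : IdealEt X.obj} (hJ : J.IsQCoh) (U : EtOver X.obj) (hU : Aff U)
    (s : Finset Γ(U.obj.left.left, ⊤)) (hs : ∀ a ∈ s, a ∈ J.ideal U hU) :
    ∃ K : IdealEt X.obj, K.IsQCoh ∧ (∀ (V : EtOver X.obj) (hV : Aff V), (K.ideal V hV).FG) ∧ K ≤ J ∧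
      ∀ a ∈ s, a ∈ K.ideal U hU := by
  haveI : (unitModEt X.obj).IsQuasicoherent := isQuasicoherent_unit
  haveI : (modJ J).IsQuasicoherent := isQuasicoherent_sub (compat_asSub hJ)
  have hlift : ∀ a : s, ∃ y : sectModEt (modJ J) U, toFn J U y = a := fun a => by
    obtain ⟨y, hy⟩ := exists_appL (compat_asSub hJ) U hU (x := toU U (a : Fn U)) (hs a a.2)
    exact ⟨y, by rw [toFn, hy]; rfl⟩
  choose y hy using hlift
  obtain ⟨Sg, hSg⟩ := hasSys X hqc hqs (modJ J) (ULift.{u + 1} (Fin s.card)) inferInstance (fun _ => U)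
    (fun _ => hU) (fun _ => top' U) (fun k => y (s.equivFin.symm k.down))
  refine ⟨sysIdeal Sg, isQCoh_sysIdeal Sg, fg_sysIdeal Sg, sysIdeal_le hJ Sg, fun a ha => ?_⟩
  obtain ⟨k, hk⟩ : ∃ k, s.equivFin.symm k = ⟨a, ha⟩ := ⟨s.equivFin ⟨a, ha⟩, Equiv.symm_apply_apply _ _⟩
  refine ⟨y (s.equivFin.symm k), hSg ⟨k⟩, ?_⟩
  rw [hy, hk]

/-- Quasi-coherent ideals are compared on an atlas. -/
theorem le_of_le_atlas {X : Sp S} {U : Over S} [IsAffine U.left] {a : (yon S).obj U ⟶ X} (ha : RepWith @Etale a)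
    (has : RepWith @Surjective a) {K K' : IdealEt X} (hK : K.IsQCoh) (hK' : K'.IsQCoh)
    (h : K.ideal (EtOver.mk a ha) ‹IsAffine U.left› ≤ K'.ideal (EtOver.mk a ha) ‹IsAffine U.left›) : K ≤ K' := by
  intro E hE
  obtain ⟨Z', π, v, hZ', hπ, hπs, hv⟩ := Groth.Agent.AlgSpDec.exists_affine_cover_lift ha has E.obj.hom
  let E' : EtOver X := EtOver.mk ((yon S).map π ≫ E.obj.hom)
    (repWith_comp ((repWith_yon_map_iff _ _).2 hπ) E.property)
  have hE' : IsAffine E'.obj.left.left := hZ'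
  let g : E' ⟶ E := EtOver.homMk π rfl
  let g₀ : E' ⟶ EtOver.mk a ha := EtOver.homMk v hv.symm
  have heq : ∀ {L : IdealEt X}, L.IsQCoh → ∀ {A B : EtOver X} (φ : B ⟶ A) (hA : Aff A) (hB : Aff B),
      L.ideal B hB = (L.ideal A hA).map φ.hom.left.left.appTop.hom :=
    fun {L} hL {A B} φ hA hB => le_antisymm (hL φ hA hB) (L.map_le φ hA hB)
  have h1 : K.ideal E' hE' ≤ K'.ideal E' hE' := by
    rw [heq hK g₀ ‹IsAffine U.left› hE', heq hK' g₀ ‹IsAffine U.left› hE']
    exact Ideal.map_mono h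
  rw [heq hK g hE hE', heq hK' g hE hE'] at h1
  haveI : IsAffine Z'.left := hZ'
  haveI : IsAffine E.obj.left.left := hE
  haveI : Etale π.left := hπ
  haveI : Surjective π.left := hπs
  have hff : g.hom.left.left.appTop.hom.FaithfullyFlat :=
    (Flat.flat_and_surjective_iff_faithfullyFlat_of_isAffine π.left).1 ⟨inferInstance, inferInstance⟩
  algebraize [g.hom.left.left.appTop.hom]
  haveI : Module.FaithfullyFlat Γ(E.obj.left.left, ⊤) Γ(E'.obj.left.left, ⊤) := hff
  intro x hx
  have h2 := h1 (Ideal.mem_map_of_mem _ hx)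
  have h3 := Ideal.comap_map_eq_self_of_faithfullyFlat (B := Γ(E'.obj.left.left, ⊤)) (K'.ideal E hE)
  exact h3.le h2

end Groth.Agent.FTIdeal13
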