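import Groth.Agent.FTIdeal13.Basic
import Groth.Agent.AlgSpDec.LimImmersion
import Groth.Agent.AlgSpDec.LimDescentRep
import Groth.Agent.AlgSpPts.Descent
import Mathlib.AlgebraicGeometry.Morphisms.FinitePresentation

/-!
# Closed subspaces are limits of closed subspaces of finite presentation
-/

set_option autoImplicit false
set_option linter.style.haveILetI false
set_option backward.isDefEq.respectTransparency false
set_option backward.isDefEq.respectTransparency.types false

universe u

open CategoryTheory CategoryTheory.Limits AlgebraicGeometry Opposite AlgSp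
open Groth.Agent.AlgSpLib Groth.Agent.AlgSpPts Groth.Agent.AlgSpDec

namespace Groth.Agent.FTIdeal13

variable {S : Scheme.{u}}

theorem lfp_of_fg_ker {A B : Scheme.{u}} (j : A ⟶ B) [IsAffine B] [IsClosedImmersion j]
    (h : (RingHom.ker j.appTop.hom).FG) : LocallyOfFinitePresentation j := by
  haveI : IsAffine A := isAffine_of_isAffineHom j
  rw [HasRingHomProperty.iff_of_isAffine (P := @LocallyOfFinitePresentation)]
  exact RingHom.FinitePresentation.of_surjective _ (j.app_surjective ⊤ (isAffineOpen_top B)) h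

/-- A closed subspace cut out by an ideal of finite type is of finite presentation. -/
theorem isFinitePresentationMor_of_fg {X : Sp S} {Z : Sp S} {i : Z ⟶ X}
    (hX : IsAlgSpace X) (hqc : IsQuasiCompactSp X) (hi : RepWith @IsClosedImmersion i)
    (hfg : ∀ (E : EtOver X) (hE : IsAffine E.obj.left.left), ((idealOfRep hi.1).ideal E hE).FG) :
    IsFinitePresentationMor i := by
  obtain ⟨U, a, hU, ha, has⟩ := exists_affine_atlas hqc
  haveI : IsAffine U.left := hU
  haveI := isLocallySurjective_of_etale_surjective ha has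
  haveI : MorphismProperty.IsLocalAtTarget (@LocallyOfFinitePresentation : MorphismProperty Scheme.{u}) Scheme.fppfPrecoverage :=
    isLocalAtTarget_fppf _
  have h1 : RepWith @LocallyOfFinitePresentation ((yon S).map (hi.rep.snd a)) := by
    rw [repWith_yon_map_iff]
    haveI : IsClosedImmersion (hi.rep.snd a).left := hi.property_snd a
    exact lfp_of_fg_ker _ (hfg (EtOver.mk a ha) hU)
  refine ⟨locP_of_repWith (repWith_of_locallySurjective hi.rep a (hi.rep.isPullback a) _ h1),
    isQuasiCompactMor_of_repWith (repWith_mono (fun _ _ e (_ : IsClosedImmersion e) => inferInstanceAs (QuasiCompact e)) _ hi), ?_⟩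
  exact isQuasiSeparatedMor_of_isSeparatedMor (isSeparatedMor_of_repWith_affine
    (repWith_mono (fun _ _ e (_ : IsClosedImmersion e) => inferInstanceAs (IsAffineHom e)) _ hi))

/-- A morphism factors through a monomorphism if all its affine points do. -/
theorem exists_factor_of_points {F X Y : Sp S} (f : X ⟶ Y) [Mono f] (g : F ⟶ Y)
    (h : ∀ (T : Over S), IsAffine T.left → ∀ (x : (yon S).obj T ⟶ F), ∃ l, l ≫ f = x ≫ g) : ∃ l, l ≫ f = g := by
  haveI : Sheaf.IsLocallySurjective (pullback.snd f g) := by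
    refine isLocallySurjective_of_lifts _ fun T x => ?_
    let V := T.left.affineCover
    let Tk : V.I₀ → Over S := fun k => Over.mk (V.f k ≫ T.hom)
    let φk : ∀ k, Tk k ⟶ T := fun k => Over.homMk (V.f k) rfl
    choose l hl using fun k => h (Tk k) (inferInstanceAs (IsAffine (V.X k))) ((yon S).map (φk k) ≫ x)
    obtain ⟨G, hG⟩ := exists_hom_sigma Tk fun k => pullback.lift (l k) ((yon S).map (φk k) ≫ x) (hl k)
    let φ : sigmaOver Tk ⟶ T := Over.homMk (Sigma.desc fun k => V.f k) (by
      apply Sigma.hom_ext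
      intro k
      change Sigma.ι _ k ≫ Sigma.desc _ ≫ T.hom = Sigma.ι _ k ≫ Sigma.desc _
      rw [Sigma.ι_desc_assoc, Sigma.ι_desc]
      rfl)
    refine ⟨_, φ, G, ?_, hom_ext_sigma Tk fun k => ?_⟩
    · haveI : AlgebraicGeometry.Etale φ.left :=
        IsZariskiLocalAtSource.sigmaDesc (P := @AlgebraicGeometry.Etale) fun k => inferInstanceAs (AlgebraicGeometry.Etale (V.f k))
      haveI : Surjective φ.left := ⟨fun t => by
        obtain ⟨z, hz⟩ := V.covers t
        exact ⟨Sigma.ι (fun k => V.X k) (V.idx t) z, by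
          refine (Scheme.Hom.comp_apply _ _ _).symm.trans ?_
          exact (congrArg (fun m : V.X (V.idx t) ⟶ T.left => m z) (Sigma.ι_desc (fun k => V.f k) (V.idx t))).trans hz⟩⟩
      exact fppf_of φ.left
    · rw [← Category.assoc, hG, pullback.lift_snd, ← Category.assoc, ← Functor.map_comp]
      congr 2
      exact Over.OverMorphism.ext (Sigma.ι_desc (fun k => V.f k) k).symm
  haveI := Sheaf.epi_of_isLocallySurjective (pullback.snd f g)
  haveI := isIso_of_mono_of_epi (pullback.snd f g)
  exact ⟨inv (pullback.snd f g) ≫ pullback.fst f g, by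
    rw [Category.assoc, pullback.condition, IsIso.inv_hom_id_assoc]⟩

/-- The closed subspace of an ideal is the limit of those of its subideals of finite type. -/
theorem exists_limit_closed [QuasiSeparatedSpace ↥S] (X Y : Space S) {f : X.obj ⟶ Y.obj}
    (hf : RepWith @IsClosedImmersion f) (hqc : IsQuasiCompactSp Y.obj) (hqs : IsQuasiSeparatedSp Y.obj) :
    ∃ (I : Type u) (_ : Preorder I) (_ : IsDirected I (fun a b => a ≤ b)) (_ : Nonempty I) (D : Iᵒᵖ ⥤ Sp S)
      (t : D ⟶ (Functor.const Iᵒᵖ).obj Y.obj) (c : Cone D) (_ : IsLimit c) (e : c.pt ≅ X.obj),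
      (∀ i, IsAlgSpace (D.obj i)) ∧ (∀ (i j : Iᵒᵖ) (φ : i ⟶ j), RepWith @IsClosedImmersion (D.map φ)) ∧
      (∀ i, RepWith @IsClosedImmersion (t.app i) ∧ IsFinitePresentationMor (t.app i)) ∧
        (∀ i, e.inv ≫ c.π.app i ≫ t.app i = f) := by
  classical
  obtain ⟨U, a, hU, ha, has⟩ := exists_affine_atlas hqc
  haveI : IsAffine U.left := hU
  let J := idealOfRep hf.1
  have hJ : J.IsQCoh := isQCoh_idealOfRep hf.1
    (isQuasiCompactMor_of_repWith (repWith_mono (fun _ _ e (_ : IsClosedImmersion e) => inferInstanceAs (QuasiCompact e)) _ hf))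
  let E₀ : EtOver Y.obj := EtOver.mk a ha
  let P : Ideal Γ(U.left, ⊤) → Prop := fun A => ∃ K : IdealEt Y.obj, K.IsQCoh ∧
    (∀ (V : EtOver Y.obj) (hV : IsAffine V.obj.left.left), (K.ideal V hV).FG) ∧ K ≤ J ∧ K.ideal E₀ hU = A
  let I := {A : Ideal Γ(U.left, ⊤) // P A}
  choose K hKq hKfg hKJ hKA using fun A : I => A.2
  choose Z i hi hZ using fun A : I => exists_isCutOutBy (hKq A) Y.property
  haveI hdir : IsDirected I (fun a b => a ≤ b) := ⟨fun A B => by
    obtain ⟨sA, hsA⟩ := (hKA A ▸ hKfg A E₀ hU : A.1.FG)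
    obtain ⟨sB, hsB⟩ := (hKA B ▸ hKfg B E₀ hU : B.1.FG)
    obtain ⟨L, hL1, hL2, hL3, hL4⟩ := exists_fg_le Y hqc hqs hJ E₀ hU (sA ∪ sB) (fun x hx => by
      rcases Finset.mem_union.1 hx with h | h
      · exact hKJ A E₀ hU ((hKA A).ge (hsA ▸ Ideal.subset_span h))
      · exact hKJ B E₀ hU ((hKA B).ge (hsB ▸ Ideal.subset_span h)))
    refine ⟨⟨_, L, hL1, hL2, hL3, rfl⟩, ?_, ?_⟩
    · show A.1 ≤ _
      rw [← hsA, Ideal.span_le]
      exact fun x hx => hL4 x (Finset.mem_union_left _ hx)
    · show B.1 ≤ _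
      rw [← hsB, Ideal.span_le]
      exact fun x hx => hL4 x (Finset.mem_union_right _ hx)⟩
  haveI : Nonempty I := by
    obtain ⟨L, hL1, hL2, hL3, -⟩ := exists_fg_le Y hqc hqs hJ E₀ hU ∅ (fun _ h => absurd h (Finset.notMem_empty _))
    exact ⟨⟨_, L, hL1, hL2, hL3, rfl⟩⟩
  have hfac : ∀ {A B : Iᵒᵖ} (_ : A ⟶ B), ∃ g, g ≫ i B.unop = i A.unop := fun {A B} φ => by
    refine (idealOfRep_le_iff_factor (Z A.unop).property Y.property (hi B.unop) (hi A.unop).rep).1 ?_
    rw [hZ, hZ]
    exact le_of_le_atlas ha has (hKq _) (hKq _) (by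
      rw [show (K B.unop).ideal (EtOver.mk a ha) _ = B.unop.1 from hKA _,
        show (K A.unop).ideal (EtOver.mk a ha) _ = A.unop.1 from hKA _]
      exact leOfHom φ.unop)
  choose m hm using @hfac
  have hmono : ∀ A, Mono (i A) := fun A => mono_of_closedImmersion (hi A)
  let D : Iᵒᵖ ⥤ Sp S :=
    { obj := fun A => (Z A.unop).obj
      map := fun φ => m φ
      map_id := fun A => (cancel_mono (i A.unop)).1 (by rw [hm, Category.id_comp])
      map_comp := fun {A B C} φ ψ => (cancel_mono (i C.unop)).1 (by rw [hm, Category.assoc, hm, hm]) }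
  let t : D ⟶ (Functor.const Iᵒᵖ).obj Y.obj :=
    { app := fun A => i A.unop, naturality := fun A B φ => (hm φ).trans (Category.comp_id _).symm }
  have hproj : ∀ A : Iᵒᵖ, ∃ p, p ≫ i A.unop = f := fun A => by
    refine (idealOfRep_le_iff_factor X.property Y.property (hi A.unop) hf.rep).1 ?_
    rw [hZ]
    exact hKJ A.unop
  choose p hp using hproj
  let c : Cone D :=
    { pt := X.obj
      π := { app := p, naturality := fun A B φ => (cancel_mono (i B.unop)).1 (by
          rw [Category.assoc, Category.assoc, show D.map φ ≫ i B.unop = i A.unop from hm φ, hp]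
          exact (Category.id_comp f).trans (hp A).symm) } }
  haveI := mono_of_closedImmersion hf
  haveI : IsConnected Iᵒᵖ := IsCofiltered.isConnected _
  have hlift : ∀ s : Cone D, ∃ l, ∀ A, l ≫ p A = s.π.app A := fun s => by
    obtain ⟨A₀⟩ : Nonempty Iᵒᵖ := inferInstance
    obtain ⟨l, hl⟩ := exists_factor_of_points f (s.π.app A₀ ≫ i A₀.unop) fun T hT x => by
      haveI := hT
      have hr : Representable (x ≫ s.π.app A₀ ≫ i A₀.unop) := representable_from_yon' Y.property _
      refine (idealOfRep_le_iff_factor (IsAlgSpace.yon_obj T) Y.property hf hr).1 ?_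
      refine le_of_le_atlas ha has hJ (isQCoh_idealOfRep hr (isQuasiCompactMor_of_qc_qs (IsAlgSpace.yon_obj T) Y.property ((isQuasiCompactSp_yon_iff T).2 inferInstance) hqs _)) ?_
      intro z hz
      obtain ⟨L, hL1, hL2, hL3, hL4⟩ := exists_fg_le Y hqc hqs hJ E₀ hU {z} (fun w hw => by
        rw [Finset.mem_singleton.1 hw]; exact hz)
      let A : Iᵒᵖ := op ⟨_, L, hL1, hL2, hL3, rfl⟩
      have h2 : x ≫ s.π.app A₀ ≫ i A₀.unop = (x ≫ s.π.app A) ≫ i A.unop := by
        rw [Category.assoc]
        exact congrArg (x ≫ ·) (const_proj_eq t s A₀ A)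
      have h3 : idealOfRep (hi A.unop).1 ≤ idealOfRep hr :=
        (idealOfRep_le_iff_factor (IsAlgSpace.yon_obj T) Y.property (hi A.unop) hr).2 ⟨_, h2.symm⟩
      rw [hZ] at h3
      refine h3 E₀ hU ((hKA A.unop).ge ?_)
      exact hL4 z (Finset.mem_singleton_self z)
    refine ⟨l, fun A => (cancel_mono (i A.unop)).1 ?_⟩
    rw [Category.assoc, hp, hl]
    exact const_proj_eq t s A₀ A
  choose lift hliftfac using hlift
  let hc : IsLimit c := IsLimit.mk lift hliftfac fun s l hl => by
    obtain ⟨A₀⟩ : Nonempty Iᵒᵖ := inferInstance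
    refine (cancel_mono f).1 ?_
    show l ≫ f = lift s ≫ f
    rw [← hp A₀, ← Category.assoc, ← Category.assoc, hliftfac]
    exact congrArg (· ≫ i A₀.unop) (hl A₀)
  refine ⟨I, inferInstance, hdir, inferInstance, D, t, c, hc, Iso.refl _, fun A => (Z A.unop).property,
    fun A B φ => ?_, fun A => ⟨hi A.unop, ?_⟩, fun A => ?_⟩
  · refine repWith_of_comp_mono _ (i B.unop) ?_
    rw [show D.map φ ≫ i B.unop = i A.unop from hm φ]
    exact hi A.unop
  · exact isFinitePresentationMor_of_fg Y.property hqc (hi A.unop) fun E hE => by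
      rw [hZ]
      exact hKfg A.unop E hE
  · exact (Category.id_comp _).trans (hp A)

end Groth.Agent.FTIdeal13
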