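import Groth.Agent.FTIdeal13.Closed
import Groth.Agent.AlgSpDec.RedInduced
import Groth.Agent.AlgSpDec.PointsSpectral
import Groth.Agent.AlgSpDec.LimOpen
import Groth.Agent.AlgSpPts.Misc

/-!
# Quasi-compact opens are complements of ideals of finite type
-/

set_option autoImplicit false
set_option linter.style.haveILetI false
set_option backward.isDefEq.respectTransparency false
set_option backward.isDefEq.respectTransparency.types false

universe u

open CategoryTheory CategoryTheory.Limits AlgebraicGeometry Opposite AlgSp Topology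
open Groth.Agent.AlgSpLib Groth.Agent.AlgSpPts Groth.Agent.AlgSpDec

namespace Groth.Agent.FTIdeal13

variable {S : Scheme.{u}} {X : Sp S}

/-- The value of an ideal family on an affine chart. -/
noncomputable abbrev chartIdeal (I : IdealEt X) {U : Over S} [IsAffine U.left] {a : (yon S).obj U ⟶ X}
    (ha : RepWith @Etale a) : Ideal Γ(U.left, ⊤) :=
  I.ideal (EtOver.mk a ha) ‹IsAffine U.left›

/-- The points of a closed subspace on an affine chart are the zeros of its ideal. -/
theorem preimage_range_closed {Z : Sp S} {i : Z ⟶ X} (hi : RepWith @IsClosedImmersion i) {U : Over S}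
    [IsAffine U.left] {a : (yon S).obj U ⟶ X} (ha : RepWith @Etale a) :
    Points.ofPt a ⁻¹' Set.range (Points.map i) =
      U.left.zeroLocus (U := ⊤) (chartIdeal (idealOfRep hi.1) ha : Set Γ(U.left, ⊤)) := by
  rw [← range_snd_eq_preimage hi.rep a]
  haveI : IsClosedImmersion (hi.rep.snd a).left := hi.property_snd a
  have h1 : (hi.rep.snd a).left.ker.support = Set.range (hi.rep.snd a).left := by
    rw [Scheme.Hom.support_ker]
    exact (hi.rep.snd a).left.isClosedEmbedding.isClosed_range.closure_eq
  have h2 := (hi.rep.snd a).left.ker.supportSet_inter ⟨⊤, isAffineOpen_top U.left⟩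
  rw [TopologicalSpace.Opens.coe_top, Set.inter_univ, Set.inter_univ] at h2
  rw [← h1]
  refine h2.trans ?_
  show _ = U.left.zeroLocus (U := ⊤) (chartIdeal (idealOfRep hi.1) ha : Set Γ(U.left, ⊤))
  rw [chartIdeal, idealOfRep_eq' hi.1]

theorem mem_basicOpen_of_notMem_zeroLocus {U : Scheme.{u}} {s : Set Γ(U, ⊤)} {x : U}
    (h : x ∉ U.zeroLocus (U := ⊤) s) : ∃ f ∈ s, x ∈ U.basicOpen f := by
  rw [Scheme.mem_zeroLocus_iff] at h
  push Not at h
  exact h

/-- An open subspace is quasi-compact iff its complement is cut out by an ideal of finite type. -/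
theorem isQuasiCompactSp_open_iff [QuasiSeparatedSpace ↥S] (X : Space S) (hqc : IsQuasiCompactSp X.obj)
    (hqs : IsQuasiSeparatedSp X.obj) (V : Space S) {j : V.obj ⟶ X.obj} (hj : RepWith @IsOpenImmersion j) :
    IsQuasiCompactSp V.obj ↔
      ∃ (I : IdealEt X.obj), I.IsQCoh ∧
        (∀ (E : EtOver X.obj) (hE : IsAffine E.obj.left.left), (I.ideal E hE).FG) ∧
        ∃ (Z : Space S) (i : Z.obj ⟶ X.obj), IsCutOutBy I i ∧
          Set.range (Points.map i) = (Set.range (Points.map j))ᶜ := by
  classical
  obtain ⟨U, a, hU, ha, has⟩ := exists_affine_atlas hqc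
  haveI : IsAffine U.left := hU
  have hemb := isOpenEmbedding_map' X.property hj
  have hsurj : Function.Surjective (Points.ofPt a) := surjective_ofPt has
  constructor
  · intro hV
    haveI := (isQuasiCompactSp_iff V.property).1 hV
    haveI : QuasiCompact (hj.rep.snd a).left :=
      (repWith_quasiCompact hj.rep (isQuasiCompactMor_of_qc_qs V.property X.property hV hqs j)).property_snd a
    haveI : CompactSpace (hj.rep.pullback a).left := QuasiCompact.compactSpace_of_compactSpace (hj.rep.snd a).left
    have hO : IsCompact (Points.ofPt a ⁻¹' Set.range (Points.map j)) := by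
      rw [← range_snd_eq_preimage hj.rep a]
      exact isCompact_range (hj.rep.snd a).left.continuous
    obtain ⟨Z₀, i₀, hi₀, hr₀, -⟩ := exists_reduced_induced X.property (hemb.isOpen_range.isClosed_compl)
    have hJ := isQCoh_idealOfRep hi₀.1 (isQuasiCompactMor_of_repWith
      (repWith_mono (fun _ _ e (_ : IsClosedImmersion e) => inferInstanceAs (QuasiCompact e)) _ hi₀))
    have hcompl : Points.ofPt a ⁻¹' Set.range (Points.map j) =
        (U.left.zeroLocus (U := ⊤) (chartIdeal (idealOfRep hi₀.1) ha : Set Γ(U.left, ⊤)))ᶜ := by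
      rw [← preimage_range_closed hi₀ ha, hr₀, Set.preimage_compl, compl_compl]
    obtain ⟨s, hs⟩ := hO.elim_finite_subcover
      (fun f : (chartIdeal (idealOfRep hi₀.1) ha : Set Γ(U.left, ⊤)) => (U.left.basicOpen f.1 : Set U.left))
      (fun f => (U.left.basicOpen f.1).2) (fun x hx => by
        rw [hcompl] at hx
        obtain ⟨f, hf, hxf⟩ := mem_basicOpen_of_notMem_zeroLocus hx
        exact Set.mem_iUnion.2 ⟨⟨f, hf⟩, hxf⟩)
    obtain ⟨K, hK, hKfg, hKJ, hKs⟩ := exists_fg_le X hqc hqs hJ (EtOver.mk a ha) hU (s.image Subtype.val)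
      (fun f hf => by
        obtain ⟨g, -, rfl⟩ := Finset.mem_image.1 hf
        exact g.2)
    obtain ⟨Z, i, hi, hiK⟩ := exists_isCutOutBy hK X.property
    refine ⟨K, hK, hKfg, Z, i, ⟨hi, hiK⟩, hsurj.preimage_injective ?_⟩
    rw [Set.preimage_compl, preimage_range_closed hi ha, hiK]
    refine Set.Subset.antisymm (fun x hx => fun hxj => ?_) (fun x hx => ?_)
    · obtain ⟨g, hg, hxg⟩ := Set.mem_iUnion₂.1 (hs hxj)
      exact (Scheme.mem_zeroLocus_iff _ _ x).1 hx g.1 (hKs _ (Finset.mem_image_of_mem _ hg)) hxg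
    · by_contra hxK
      obtain ⟨f, hf, hxf⟩ := mem_basicOpen_of_notMem_zeroLocus hxK
      refine hx ?_
      rw [hcompl]
      exact fun hz => (Scheme.mem_zeroLocus_iff _ _ x).1 hz f (hKJ (EtOver.mk a ha) hU hf) hxf
  · rintro ⟨I, -, hfg, Z, i, ⟨hi, hiI⟩, hr⟩
    obtain ⟨s, hs⟩ : (chartIdeal I ha).FG := hfg (EtOver.mk a ha) hU
    have hO : Points.ofPt a ⁻¹' Set.range (Points.map j) = ⋃ f ∈ s, (U.left.basicOpen f : Set U.left) := by
      have h1 : Set.range (Points.map j) = (Set.range (Points.map i))ᶜ := by rw [hr, compl_compl]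
      rw [h1, Set.preimage_compl, preimage_range_closed hi ha, hiI, ← hs, Scheme.zeroLocus_span]
      ext x
      rw [Set.mem_compl_iff, Scheme.mem_zeroLocus_iff]
      simp
    have hc : IsCompact (Set.range (Points.map j)) := by
      rw [← hsurj.image_preimage (Set.range (Points.map j)), hO]
      refine IsCompact.image (s.finite_toSet.isCompact_biUnion fun f _ => ?_) (Points.continuous_ofPt a)
      exact ((isAffineOpen_top U.left).basicOpen f).isCompact
    rw [isQuasiCompactSp_iff V.property]
    refine ⟨hemb.isEmbedding.isCompact_iff.2 ?_⟩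
    rw [Set.image_univ]
    exact hc

end Groth.Agent.FTIdeal13
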